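import Cfsg.Agent.Lib.Spor.Leech.Census.Data.Gens

/-!
The 352 minimal vectors with inner products 16 and -24 against a Higman-Sims pair.
-/

set_option autoImplicit false
set_option maxRecDepth 100000
set_option maxHeartbeats 0

namespace CfsgLib.Spor.HSStab

open Cfsg CfsgLib.Spor.Leech CfsgLib.Spor.Leech.Census32

/-- The tests. -/
def testsX : List (leechLattice × ℤ) := [(u3L, 16), (w0L, -24)]

/-- Their numbers. -/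
def codeX : List (ℕ × ℕ) := [(84422585336595084411719813305156662600740575543670887098873042517394523179145638498894440270584955825472164, 4336), (28141788158368731238348077574910779016653881759205986124609041347873163565572711955263012398531767844962372, 3848)]

/-- A marked vector. -/
def x0L : leechLattice :=
  ⟨fun p => [3, 1, 1, 1, 1, 1, 1, 1, 1, 1, 1, -1, -1, -1, -1, -1, 1, 1, -1, 1, 1, -1, 1, 1].getD (ptIdx p) 0, leechTest_spec (by decide +kernel)⟩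

/-- Part of the paths. -/
def paths0 : List (List ℕ) := [
[], [0,0,0,3,0], [0,1,0,1,0,0], [3,2,1,0,3], [0,1,0,0], [0,1,1,0,0], [3,0,1,2], [1,0,1,2,3], [0,3,0,0,0], [1,0,0,3], [3,2,1,0,1], [3,2,3,2], [1,0,0,1,0], [2,3,3,0,0,3], [2,3,2,3], [0,1,1,0,3], [0,0,0,1,0,1], [1,0,3], [0,3,2,3], [2,3,0,3,0], [1,1,2,1], [1,1,2,3], [1,2,1,2,2], [3,0,1,1], [1,1,1,0,0], [0,0,0,0,1], [1,1,0,0,0,0], [0,1,0,1,1,1], [1,2,3,2,1], [1,0,1], [3,0,1,0], [0,0,1,2], [2,1,2], [0,3,3,2,3], [3,3,0,0,0], [0,3,0,1,0], [0,0,3,2,3], [2,2,1,1,0], [0,3], [3,0,1,2,1,0], [3,2,1,1,2,1], [3,3,2,3], [3,0,0,3,0], [1,1,0,0,1,1], [0,0], [2,2,1,0,1], [2,2,3,0,3], [2,1,2,1,0], [0,0,0,0,0], [2,1,1,2,1], [2,3,3,2,3], [0,0,0,3], [1,0,1,0], [2,2,2], [2,2,1], [1,2,1,2], [0,3,0], [1,1,2,1,0,1], [1,0,1,2,1], [3,3,2,3,0], [2,3,3,3], [2,1,2,3,0],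 [1,2,1,1,0], [0,0,1,1,0,3,0], [3,0,0,1,0], [1,1,0], [2,3,3,0], [0,0,0,1,0], [1,2,3], [3,2,1,2,1], [2,1,1,0,1,1], [1,1,2,2], [2,2,2,1,1], [3,3,0,0,3], [3,0,0,0,3,0], [1,1,0,1,1], [0,3,2,2], [0,3,3,2], [2,3,3,2,1], [1,2,2], [1,1,0,3,0], [1,1], [0,1,0,3], [3,0,3,3,3], [1,0,3,3,3], [3,2], [0,1,1,1], [0,1], [1,1,1,0,1], [0,1,0,1], [2,3,0,0,0,0], [1,2,1,2,1], [1,0,3,3,0], [1,2,1,0], [3,2,3,0], [3,2,3,3,2,1], [0,0,1,0,1,0], [3,3,0,0,0,0], [2,2,2,2,1,1], [2,2,1,1,1]]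

/-- Part of the paths. -/
def paths1 : List (List ℕ) := [
[3,3,0,3], [2,3,3,2,2], [1,2,1,1], [1,2,3,0], [1,0,0], [1,0,1,2], [1,0,0,1,1], [3,0,0], [2,2,1,2,1], [3,0,0,1,1], [2,3,3,3,0,0], [3,3,0], [1,0,0,1], [0,1,2,2,2], [1,2,2,2,3], [0,3,2,3,0], [0,1,2,2,1], [0,3,0,1,1], [0,1,1,2,1], [3,3,0,1,2], [1,1,0,0,1,0], [3,0,0,3], [2,1,2,1,1,0], [0,0,0], [1,2,3,3,0], [1,1,2,2,3], [1,0], [1,0,1,0,3], [1,1,1,2,2], [3,0], [0,3,0,0,3,0], [1,1,0,0], [3,3,0,1,0], [3,0,1,0,0], [2,1,1,2,2], [0,3,3,0,0,0], [0,0,1,0], [2,2,1,2,1,0], [0,0,1,1], [3,0,3,3], [3,0,3,2,3], [3,0,0,0,0], [3,3,3,2,3], [2,1,0,1,0], [0,3,3,3], [3,3], [2,1,1,0], [3,3,3,3], [2,3,0,3], [3,3,2,2], [2,2,3,2,2,2], [2,3,2,2,2], [0,1,1,1,0], [1,2,1], [2,2,3,0,1], [2,1,2,2], [0,1,1,2,2], [1,0,0,0,0], [0,0,1,1,0,0], [3,0,1,1,0,0], [2,2,3,3,2,1], [2,1,1,1],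 [0,0,1,0,1,0,0], [3,0,0,1,2], [0,1,2,1,2], [3,3,0,3,0], [1,0,1,2,2,2], [3,3,2,1], [2,3,2,1], [2,1,2,2,1], [0,0,1,0,0], [2,1,1,2,3], [3,3,3,2], [3,3,0,1,1], [0,3,0,1,2], [0,3,2,1,1,1], [1,2,1,1,1], [2,2], [1,2,1,1,2], [3,0,1], [3,0,0,0,1,0], [3,3,3,3,0,1], [3,2,2,1], [2,3,2,1,0,1], [3,0,1,2,1], [1,0,1,1,1], [3,3,3,2,3,0], [0,1,1,0,3,0], [3,3,3,0,0], [1,1,1,1,1,2], [0,1,0,1,0], [0,1,0,0,1], [0,1,2,3], [0,0,1], [3,0,3,3,3,2], [2,1,0,1,2,1], [0,1,0,3,0,0], [0,0,3,0,1], [0,0,3,3,3,2], [3,2,1,2]]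

/-- Part of the paths. -/
def paths2 : List (List ℕ) := [
[2,1,1,2], [0,0,1,0,3], [3,3,2,2,2], [3,0,0,0], [2,1,0,0,0], [2,1,0,3,0], [0,3,3,0], [2,1], [0,1,1], [2,2,2,3], [1,2,1,0,0,0], [0,0,3,3,0], [3,0,1,2,3], [1,0,3,0,1], [1,1,1], [0], [0,3,0,0], [2,2,2,2,3], [3,2,2,2], [1,1,1,2], [0,3,0,1,2,1,0], [3,2,3,2,1], [2,2,1,1], [2,2,1,0], [2,1,0,1,0,1], [1,0,3,0,0], [3,0,3,0,0], [1,2,3,2], [2,2,3,2,3], [0,0,3,0], [0,1,2], [1,0,1,1], [2,2,2,2], [2,3,0], [3,0,3,0], [2,1,0,1], [1,0,3,2,3,0], [1,1,0,0,0], [0,1,1,1,0,0,0], [1,0,3,2,2], [0,1,2,3,0], [1,0,1,2,1,0], [1,1,2,2,2], [1,0,1,0,0], [0,0,1,0,1], [1,1,0,1], [2,1,1,2,1,2], [0,3,3,0,1], [0,1,0,3,3], [1,2,2,2,1,0], [3,2,2], [1,1,2,1,2], [2,1,0,1,1,1], [1,2,2,2], [3,0,3,3,3,0], [1,0,0,0,3,0], [1,0,1,0,1], [3,0,3], [0,0,0,1], [0,3,3,0,0], [3,3,3,0], [3,3,0,0,1,1],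 [0,0,3], [2,1,0,3], [2,1,2,1], [1,0,3,0], [0,1,2,2], [1,1,1,1,0,1], [0,1,0], [2,1,0], [1,2,1,0,1], [2,2,3,0,3,0], [3,2,3], [2,2,3], [1,0,3,3], [2,3], [1], [0,3,3,3,0], [1,2,3,0,3], [0,1,1,0,0,0], [3,3,2,1,1,2], [1,2,2,1], [1,1,2], [1,1,1,0,0,1,0], [1,1,1,0,3,0], [2], [3,3,2,3,2], [2,3,0,1,0], [1,1,0,3], [0,0,3,3,2], [1,0,3,3,2,3], [3,2,3,3,3], [1,1,1,0], [3,3,2], [1,2,3,3,3], [2,1,1,0,0], [3,3,0,0], [3,0,1,1,1], [1,1,1,0,0,0], [3,2,1,2,2,1]]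

/-- Part of the paths. -/
def paths3 : List (List ℕ) := [
[3,2,2,3], [0,0,0,0], [0,1,2,1,0], [1,0,0,0,1], [2,1,1,0,0,0], [2,2,2,2,2], [2,1,1,1,2], [3,2,1,1,2], [3,0,3,3,0], [3,3,0,0,0,1,0], [3,3,0,1], [3,3,3,3,2], [2,1,0,1,0,0], [2,2,2,1,0], [1,2], [0,3,3,3,2], [1,1,0,3,3], [1,2,2,3], [3,2,2,2,2,3], [3,0,1,0,0,1], [2,3,0,1], [3,2,1,1,1], [0,1,0,3,0,1], [0,1,1,2], [2,1,1], [2,1,1,0,3], [0,3,2,2,2,1,0], [2,3,0,0,3,0], [3,3,3,0,1], [1,0,0,1,2], [3,3,3], [0,3,2,2,3], [1,0,0,0,0,0], [2,1,2,1,1], [1,1,1,1,2], [1,1,1,1,1,0,1], [3,2,1,1,1,2], [3], [3,2,2,2,1,0], [3,2,1], [2,3,2], [0,1,2,1], [3,0,1,2,2], [2,3,3,0,1,0], [3,2,1,0,0,0], [1,0,0,0], [2,3,2,1,2], [0,3,0,1], [2,3,0,3,3], [3,3,2,1,2], [0,3,2,2,1], [0,3,3]]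

/-- The paths. -/
def paths : List (List ℕ) := ([paths0, paths1, paths2, paths3] : List (List (List ℕ))).flatten

theorem testsOKX : testsOK (plain testsX) codeX = true := by decide +kernel

theorem certX : certAll hsMats (enc (x0L : GolayPt → ℤ)) (chosen codeX) paths = true ∧
    Nat.beq (chosen codeX).length 352 = true := by decide +kernel

theorem ncardX : (pickL testsX).ncard = 352 := by
  rw [ncard_pickL testsOKX]; exact Nat.eq_of_beq_eq_true certX.2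

theorem reachX {S : Subgroup Co0} (hS : ∀ g ∈ hsElts, g ∈ S) : ∀ y ∈ pickL testsX, ∃ g ∈ S, g • x0L = y :=
  transitive_of_cert isMat_hs hS testsOKX (by decide +kernel) certX.1

theorem memX : x0L ∈ pickL testsX := by
  refine ⟨by decide +kernel, ?_⟩
  simp only [testsX, List.forall_mem_cons]
  exact ⟨by decide +kernel, by decide +kernel, fun _ h => absurd h List.not_mem_nil⟩

theorem fix_words : walk hsMats (enc (x0L : GolayPt → ℤ)) [3,3,0,0,1,1,1,1,0,1,2,1,1,0,0,0,1,2,2,2,1,0,1,1,0] = enc (x0L : GolayPt → ℤ) ∧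
    walk hsMats (enc (x0L : GolayPt → ℤ)) [2,3,0,0,3,3,3,2,1,0,3,0,0,3,2,3,3,0,0,0,1,2,3,0,0,1,1,2,1,1,1,2,2,1,0] = enc (x0L : GolayPt → ℤ) := by decide +kernel

end CfsgLib.Spor.HSStab
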