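import Cfsg.Agent.Lib.Spor.HSStab.Unit
import Cfsg.Agent.Lib.Spor.HSStab.Orbit
import Cfsg.Agent.Lib.Spor.HSPerm.Group
import Cfsg.Agent.Lib.Spor.Leech.Census.Sets

/-!
The stabilizer of one of 352 points in the Higman-Sims group is the projective special unitary group of dimension
three over five elements.
-/

set_option autoImplicit false
set_option maxRecDepth 100000

namespace CfsgLib.Spor.HSStab

open Cfsg MulAction CfsgLib.Spor.Leech CfsgLib.Spor.Leech.Census32 CfsgLib.Spor.HSPerm

local notation "R100" => CfsgLib.Spor.HSPerm.eltRows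

/-- A set of the family. -/
def maskAt (i : ℕ) : ℕ := (masks.getD (i / 75) []).getD (i % 75) 0

/-- The image of a point under a word. -/
def imgW (w : List ℕ) (x : ℕ) : ℕ := w.foldr (fun u b => HSPerm.look R100 u b) x

/-- The two elements move the sets as the two generators move the points. -/
noncomputable def familyOK : Bool :=
  (List.range 2).all fun s =>
    let w := wordsK.getD s []
    (w.all fun k => Nat.blt k 4) && Nat.beq (walk hsMats (enc (x0L : GolayPt → ℤ)) w) (enc (x0L : GolayPt → ℤ)) &&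
      (List.range 100).all fun x =>
        let y := imgW w x
        (List.range 525).all fun i => (maskAt i).testBit x == (maskAt (imAt s i).1).testBit y

theorem family_ok : familyOK = true := by decide +kernel

/-- The values of the masks increase along a permutation of the indices, and all are small. -/
noncomputable def masksOK : Bool :=
  (List.range 525).all fun i => Nat.blt (maskAt i) (2 ^ 100) &&
    (List.range i).all fun j => !Nat.beq (maskAt i) (maskAt j)

theorem masks_ok : masksOK = true := by decide +kernel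

/-- Membership in a set of the family. -/
def bit (i : Fin 525) (x : Fin 100) : Bool := (maskAt i.1).testBit x.1

theorem bit_inj {i j : Fin 525} (h : ∀ x, bit i x = bit j x) : i = j := by
  have hm := masks_ok
  simp only [masksOK, List.all_eq_true, List.mem_range, Bool.and_eq_true, Bool.not_eq_true'] at hm
  have hlt : ∀ k : Fin 525, maskAt k.1 < 2 ^ 100 := fun k => Nat.le_of_ble_eq_true (hm k.1 k.2).1
  have e : maskAt i.1 = maskAt j.1 := Nat.eq_of_testBit_eq fun x => by
    by_cases hx : x < 100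
    · exact h ⟨x, hx⟩
    · rw [Nat.testBit_lt_two_pow ((hlt i).trans_le (Nat.pow_le_pow_right (by norm_num) (by omega))),
        Nat.testBit_lt_two_pow ((hlt j).trans_le (Nat.pow_le_pow_right (by norm_num) (by omega)))]
  rcases lt_trichotomy i.1 j.1 with h' | h' | h'
  · exact absurd e.symm (Nat.ne_of_beq_eq_false ((hm j.1 j.2).2 i.1 h'))
  · exact Fin.ext h'
  · exact absurd e (Nat.ne_of_beq_eq_false ((hm i.1 i.2).2 j.1 h'))

theorem gen_image (k : Fin 4) (i : Fin 100) :
    (rho ⟨_, HSPerm.gen_mem k⟩ i).1 = HSPerm.look R100 k.1 i.1 := by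
  have h := HSPerm.gen_check
  simp only [List.all_eq_true, List.mem_range, Bool.and_eq_true, decide_eq_true_eq] at h
  obtain ⟨hlt, he⟩ := h k.1 k.2 i.1 i.2
  show (HSPerm.act _ i).1 = _
  have e : HSPerm.act ⟨_, HSPerm.gen_mem k⟩ i = ⟨HSPerm.look R100 k.1 i.1, hlt⟩ := by
    refine vec_bijective.1 (vec_eq ?_)
    rw [vec_act, ← step_enc (isMat_hs _) (by rw [(vec i).2.1]; norm_num), enc_vec]
    exact Nat.eq_of_beq_eq_true he
  rw [e]

theorem word_image : ∀ w : List ℕ, (∀ k ∈ w, k < 4) →
    ∃ g : ↥G0, g.1 = wordElt hsElts w ∧ ∀ i, (rho g i).1 = imgW w i.1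
  | [], _ => ⟨1, by simp [wordElt], fun i => by rw [map_one]; rfl⟩
  | k :: w, hw => by
    obtain ⟨g, hg, hgi⟩ := word_image w fun a ha => hw a (List.mem_cons_of_mem _ ha)
    refine ⟨⟨_, HSPerm.gen_mem ⟨k, hw k List.mem_cons_self⟩⟩ * g, ?_, fun i => ?_⟩
    · rw [Subgroup.coe_mul, hg]
      simp [wordElt]
    · rw [map_mul, Equiv.Perm.mul_apply, gen_image, hgi]
      rfl

/-- The stabilizer of the marked point. -/
noncomputable abbrev K0 : Subgroup ↥G0 := stabilizer ↥G0 (x0L : leechLattice)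

theorem mem_G0_of_fixers {k : Co0} (hk : k ∈ fixers testsX) : k ∈ G0 :=
  ⟨hk (u3L, 16) (by simp [testsX]), hk (w0L, -24) (by simp [testsX])⟩

theorem hs_le_fixers : ∀ g ∈ hsElts, g ∈ fixers testsX := fun g hg t ht => by
  have h := hsElts_fix g hg
  simp only [testsX, List.mem_cons, List.not_mem_nil, or_false] at ht
  rcases ht with rfl | rfl
  exacts [h (u3L, 24) (by simp), h (w0L, -24) (by simp)]

theorem card_K0 : Nat.card ↥K0 * 352 ≤ 44352000 := by
  have hG : Nat.card ↥G0 = 44352000 := card_hs_base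
  haveI : Finite ↥G0 := Nat.finite_of_card_ne_zero (by rw [hG]; norm_num)
  have hsub : pickL testsX ⊆ orbit ↥G0 (x0L : leechLattice) := fun y hy => by
    obtain ⟨k, hk, rfl⟩ := reachX (S := fixers testsX) hs_le_fixers y hy
    exact ⟨⟨k, mem_G0_of_fixers hk⟩, rfl⟩
  have h := Nat.card_congr (orbitProdStabilizerEquivGroup ↥G0 (x0L : leechLattice))
  rw [Nat.card_prod, hG] at h
  have h352 : 352 ≤ Nat.card (orbit ↥G0 (x0L : leechLattice)) := by
    rw [Nat.card_coe_set_eq, ← ncardX]
    exact Set.ncard_le_ncard hsub (Set.finite_range _)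
  rw [← h, mul_comm]
  exact Nat.mul_le_mul h352 le_rfl

theorem exists_gen (s : Fin 2) : ∃ g : ↥G0, g ∈ K0 ∧
    ∀ i : Fin 525, ∀ j : Fin 525, j.1 = (imAt s.1 i.1).1 → ∀ x, bit i x = bit j (rho g x) := by
  have h := family_ok
  simp only [familyOK, List.all_eq_true, List.mem_range, Bool.and_eq_true, beq_iff_eq] at h
  obtain ⟨⟨hw, hfix⟩, hmv⟩ := h s.1 s.2
  obtain ⟨g, hg, hgi⟩ := word_image (wordsK.getD s.1 []) fun k hk => Nat.le_of_ble_eq_true (hw k hk)
  refine ⟨g, ?_, fun i j hj x => ?_⟩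
  · have hn : sqNorm (x0L : GolayPt → ℤ) ≤ 64 := by rw [memX.1]; norm_num
    have h1 := Nat.eq_of_beq_eq_true hfix
    rw [walk_enc isMat_hs hn] at h1
    show g.1 • x0L = x0L
    rw [hg]
    exact Subtype.ext (enc_inj (small_of_norm (by rw [co0_norm]; exact hn)) (small_of_norm hn) h1)
  · show (maskAt i.1).testBit x.1 = (maskAt j.1).testBit (rho g x).1
    rw [hgi x, hj]
    exact hmv x.1 x.2 i.1 i.2

/-- The point stabilizer is the unitary group. -/
theorem exists_equiv (F : Type) [Field F] [Fintype F] (hF : Fintype.card F = 25) :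
    Nonempty (↥K0 ≃* Cfsg.PSU 3 F 5) := by
  obtain ⟨σ, hσ, hcard, ⟨eH⟩⟩ := exists_model hF
  set H := Subgroup.closure (Set.range σ) with hH
  haveI : Finite ↥G0 := Nat.finite_of_card_ne_zero (by rw [show Nat.card ↥G0 = 44352000 from card_hs_base]; norm_num)
  choose a ha0 hj using exists_gen
  set K := Subgroup.closure (Set.range a) with hK
  have hgood : ∀ g ∈ K, ∀ i : Fin 525, ∃ j : Fin 525, ∀ x, bit i x = bit j (rho g x) := by
    intro g hg
    rw [hK, ← Subgroup.mem_toSubmonoid, Subgroup.closure_toSubmonoid_of_finite] at hg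
    induction hg using Submonoid.closure_induction with
    | mem x hx =>
      obtain ⟨s, rfl⟩ := hx
      exact fun i => ⟨σ s i, hj s i _ (hσ s i)⟩
    | one => exact fun i => ⟨i, fun x => by rw [map_one]; rfl⟩
    | mul x y _ _ hx hy =>
      intro i
      obtain ⟨j, hj⟩ := hy i
      obtain ⟨k, hk⟩ := hx j
      exact ⟨k, fun z => by rw [map_mul]; exact (hj z).trans (hk _)⟩
  choose act hact using fun (g : ↥K) => hgood g.1 g.2
  have hactu : ∀ (g : ↥K) i j, (∀ x, bit i x = bit j (rho g.1 x)) → act g i = j := fun g i j h =>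
    bit_inj fun y => by
      obtain ⟨x, rfl⟩ := (rho g.1).surjective y
      rw [← hact g i x, h x]
  have hone : ∀ i, act 1 i = i := fun i => hactu 1 i i fun x => by rw [Subgroup.coe_one, map_one]; rfl
  have hmul : ∀ g h i, act (g * h) i = act g (act h i) := fun g h i => hactu _ _ _ fun x => by
    rw [hact h i x, hact g (act h i) (rho h.1 x), Subgroup.coe_mul, map_mul]
    rfl
  let psi : ↥K →* Equiv.Perm (Fin 525) :=
    { toFun := fun g =>
        { toFun := act g
          invFun := act g⁻¹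
          left_inv := fun i => by rw [← hmul, inv_mul_cancel, hone]
          right_inv := fun i => by rw [← hmul, mul_inv_cancel, hone] }
      map_one' := Equiv.ext hone
      map_mul' := fun g h => Equiv.ext (hmul g h) }
  have hrange : H ≤ psi.range := by
    rw [hH, Subgroup.closure_le]
    rintro _ ⟨s, rfl⟩
    exact ⟨⟨a s, Subgroup.subset_closure ⟨s, rfl⟩⟩, Equiv.ext fun i => hactu _ i _ (hj s i _ (hσ s i))⟩
  have hKle : K ≤ K0 := by
    rw [hK, Subgroup.closure_le]
    rintro _ ⟨s, rfl⟩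
    exact ha0 s
  have hc1 : Nat.card ↥H ≤ Nat.card ↥psi.range := Nat.le_of_dvd Nat.card_pos (Subgroup.card_dvd_of_le hrange)
  have hc2 : Nat.card ↥psi.range ≤ Nat.card ↥K :=
    Nat.card_le_card_of_surjective psi.rangeRestrict psi.rangeRestrict_surjective
  have hc3 : Nat.card ↥K ≤ Nat.card ↥K0 := Nat.le_of_dvd Nat.card_pos (Subgroup.card_dvd_of_le hKle)
  have hK0 := card_K0
  have hKeq : K = K0 := Subgroup.eq_of_le_of_card_ge hKle (by omega)
  have hR : psi.range = H := (Subgroup.eq_of_le_of_card_ge hrange (by omega)).symm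
  have hbij : Function.Bijective psi.rangeRestrict :=
    (Nat.bijective_iff_surjective_and_card psi.rangeRestrict).2 ⟨psi.rangeRestrict_surjective, by omega⟩
  exact ⟨(MulEquiv.subgroupCongr hKeq.symm).trans
    ((MulEquiv.ofBijective psi.rangeRestrict hbij).trans ((MulEquiv.subgroupCongr hR).trans eH))⟩

theorem pick_eq (v w : leechLattice) :
    pickL [(v, (16 : ℤ)), (w, -24)] = {x : leechLattice | sqNorm (x : GolayPt → ℤ) = 32 ∧
      dotInt (v : GolayPt → ℤ) (x : GolayPt → ℤ) = 16 ∧ dotInt (w : GolayPt → ℤ) (x : GolayPt → ℤ) = -24} := by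
  ext x
  simp [pickL]

theorem main (v w : leechLattice) (hv : sqNorm (v : GolayPt → ℤ) = 48) (hw : sqNorm (w : GolayPt → ℤ) = 48)
    (hvw : dotInt (v : GolayPt → ℤ) (w : GolayPt → ℤ) = -32) (F : Type) [Field F] [Fintype F]
    (hF : Fintype.card F = 25) :
    (pickL [(v, (16 : ℤ)), (w, -24)]).ncard = 352 ∧
      (∀ x ∈ pickL [(v, (16 : ℤ)), (w, -24)], -w - x ∈ pickL [(v, (16 : ℤ)), (w, -24)]) ∧
      (∀ x ∈ pickL [(v, (16 : ℤ)), (w, -24)], ∀ x' ∈ pickL [(v, (16 : ℤ)), (w, -24)],
        ∃ g : Co0, g • v = v ∧ g • w = w ∧ g • x = x') ∧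
      ∀ x ∈ pickL [(v, (16 : ℤ)), (w, -24)],
        Nonempty (↥(stabilizer ↥Co0 v ⊓ stabilizer ↥Co0 w ⊓ stabilizer ↥Co0 x) ≃* Cfsg.PSU 3 F 5) := by
  obtain ⟨g, h1, h2⟩ := normal_hs hv hw hvw
  have hg : moveT g [(v, (16 : ℤ)), (w, -24)] = testsX := by simp [moveT, testsX, h1, h2]
  have htr : ∀ y ∈ pickL testsX, ∃ k ∈ fixers testsX, k • x0L = y := reachX hs_le_fixers
  refine ⟨by rw [ncard_move hg, ncardX], fun x hx => ?_, fun x hx x' hx' => ?_, fun x hx => ?_⟩
  · obtain ⟨hn, ht⟩ := hx
    have a16 := ht (v, 16) (by simp)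
    have a24 := ht (w, -24) (by simp)
    have hww : dotInt (w : GolayPt → ℤ) (w : GolayPt → ℤ) = 48 := by
      rw [← hw, sqNorm, dotInt]; exact Finset.sum_congr rfl fun i _ => (sq _).symm
    have hd : ∀ z : GolayPt → ℤ, dotInt z (((-w - x : leechLattice)) : GolayPt → ℤ) =
        -dotInt z (w : GolayPt → ℤ) - dotInt z (x : GolayPt → ℤ) := fun z => by
      simp only [AddSubgroup.coe_sub, AddSubgroup.coe_neg, dotInt, Pi.sub_apply, Pi.neg_apply,
        ← Finset.sum_neg_distrib, ← Finset.sum_sub_distrib]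
      exact Finset.sum_congr rfl fun i _ => by ring
    refine ⟨?_, fun t ht' => ?_⟩
    · have e : sqNorm (((-w - x : leechLattice)) : GolayPt → ℤ) = sqNorm (w : GolayPt → ℤ) +
          2 * dotInt (w : GolayPt → ℤ) (x : GolayPt → ℤ) + sqNorm (x : GolayPt → ℤ) := by
        simp only [AddSubgroup.coe_sub, AddSubgroup.coe_neg, sqNorm, dotInt, Pi.sub_apply, Pi.neg_apply,
          Finset.mul_sum, ← Finset.sum_add_distrib]
        exact Finset.sum_congr rfl fun i _ => by ring
      rw [e, hw, hn, a24]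
      norm_num
    · simp only [List.mem_cons, List.not_mem_nil, or_false] at ht'
      rcases ht' with rfl | rfl
      · rw [hd, hvw, a16]; norm_num
      · rw [hd, hww, a24]; norm_num
  · obtain ⟨k, hk, e⟩ := trans_move hg htr hx hx'
    exact ⟨k, hk (v, 16) (by simp), hk (w, -24) (by simp), e⟩
  · obtain ⟨k, hk, hkx⟩ := htr _ (hg ▸ mem_pickL_move.2 hx : g • x ∈ pickL testsX)
    have e1 : (k⁻¹ * g) • v = u3L := by rw [mul_smul, h1, inv_smul_eq_iff, hk (u3L, 16) (by simp [testsX])]
    have e2 : (k⁻¹ * g) • w = w0L := by rw [mul_smul, h2, inv_smul_eq_iff, hk (w0L, -24) (by simp [testsX])]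
    have e3 : (k⁻¹ * g) • x = x0L := by rw [mul_smul, ← hkx, inv_smul_smul]
    have hconj : (stabilizer ↥Co0 v ⊓ stabilizer ↥Co0 w ⊓ stabilizer ↥Co0 x).map
        (MulAut.conj (k⁻¹ * g)).toMonoidHom = G0 ⊓ stabilizer ↥Co0 (x0L : leechLattice) := by
      rw [Subgroup.map_inf _ _ _ (MulAut.conj _).injective, Subgroup.map_inf _ _ _ (MulAut.conj _).injective]
      congr 1
      · congr 1
        · exact (stabilizer_smul_eq_stabilizer_map_conj _ _).symm.trans (by rw [e1])
        · exact (stabilizer_smul_eq_stabilizer_map_conj _ _).symm.trans (by rw [e2])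
      · exact (stabilizer_smul_eq_stabilizer_map_conj _ _).symm.trans (by rw [e3])
    have hK : (G0 ⊓ stabilizer ↥Co0 (x0L : leechLattice)).subgroupOf G0 = K0 := by
      ext h
      simp [Subgroup.mem_subgroupOf, mem_stabilizer_iff, Subgroup.smul_def]
    obtain ⟨f⟩ := exists_equiv F hF
    exact ⟨((MulAut.conj (k⁻¹ * g)).subgroupMap _).trans ((MulEquiv.subgroupCongr hconj).trans
      ((Subgroup.subgroupOfEquivOfLe inf_le_left).symm.trans ((MulEquiv.subgroupCongr hK).trans f)))⟩

end CfsgLib.Spor.HSStab
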