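import Cfsg.Agent.Lib.Spor.HSStab.Data
import Cfsg.Agent.Lib.SU.Five.Main
import Cfsg.Agent.Lib.SU.Five.Attain
import Cfsg.Agent.Lib.SU.CenterCard
import Mathlib.LinearAlgebra.Projectivization.Action

/-!
The projective special unitary group of dimension three over five elements as a permutation group of 525
nonisotropic points.
-/

set_option autoImplicit false
set_option maxRecDepth 100000

namespace CfsgLib.Spor.HSStab

open Matrix CfsgLib.SU CfsgLib.SU.Five
open scoped MatrixGroups LinearAlgebra.Projectivization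

/-- A point as codes. -/
def ptAt (i : ℕ) : List ℕ := (pts.getD (i / 75) []).getD (i % 75) []

/-- The image and the scalar of a point. -/
def imAt (s i : ℕ) : ℕ × ℕ := (((if s = 0 then imgA else imgB).getD (i / 75) []).getD (i % 75) (0, 0))

/-- An entry of a row times a point. -/
def rowDot (A v : List ℕ) (r : ℕ) : ℕ :=
  addN (addN (mulN (ent A r 0) (v.getD 0 0)) (mulN (ent A r 1) (v.getD 1 0))) (mulN (ent A r 2) (v.getD 2 0))

/-- The first nonzero code. -/
def fnz (v : List ℕ) : ℕ := (v.find? fun x => !Nat.beq x 0).getD 0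

/-- The checks on the points. -/
def ptsOK : Bool :=
  (List.range 525).all fun i =>
    Nat.beq (fnz (ptAt i)) 1 && Nat.beq (ptAt i).length 3 && ((ptAt i).all fun x => Nat.blt x 25) &&
    (List.range 25).all fun k => Nat.beq (fnz ((ptAt i).map (mulN k))) k

theorem pts_ok : ptsOK = true := by decide +kernel

/-- The number of a point. -/
def key (i : ℕ) : ℕ := 625 * (ptAt i).getD 0 0 + 25 * (ptAt i).getD 1 0 + (ptAt i).getD 2 0

theorem pts_increasing : ((List.range 524).all fun i => Nat.blt (key i) (key (i + 1))) = true := by decide +kernel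

theorem key_inj {i j : ℕ} (hi : i < 525) (hj : j < 525) (h : key i = key j) : i = j := by
  have hm := pts_increasing
  simp only [List.all_eq_true, List.mem_range] at hm
  have key_lt : ∀ b, b < 525 → ∀ a < b, key a < key b := by
    intro b
    induction b with
    | zero => intro _ a ha; omega
    | succ b ih =>
      intro hb a ha
      have h1 : key b < key (b + 1) := Nat.le_of_ble_eq_true (hm b (by omega))
      rcases Nat.lt_succ_iff_lt_or_eq.1 ha with ha' | rfl
      · exact (ih (by omega) a ha').trans h1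
      · exact h1
  rcases lt_trichotomy i j with h' | h' | h'
  · exact absurd h (Nat.ne_of_lt (key_lt j hj i h'))
  · exact h'
  · exact absurd h.symm (Nat.ne_of_lt (key_lt i hi j h'))

/-- The checks on the images. -/
def imagesOK : Bool :=
  (List.range 2).all fun s => good (mats.getD s []) && (List.range 525).all fun i =>
    let e := imAt s i
    Nat.blt e.1 525 && Nat.blt e.2 25 && !Nat.beq e.2 0 &&
      (List.range 3).all fun r => Nat.beq (rowDot (mats.getD s []) (ptAt i) r) (mulN e.2 ((ptAt e.1).getD r 0))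

theorem images_ok : imagesOK = true := by decide +kernel

/-- A row of the orbit tree. -/
def treeAt (m : ℕ) : ℕ × ℕ × ℕ := (tree.getD (m / 75) []).getD (m % 75) (0, 0, 0)

/-- The position of a point in the tree. -/
def posAt (v : ℕ) : ℕ := (treePos.getD (v / 75) []).getD (v % 75) 0

/-- The orbit tree is complete. -/
def treeOK : Bool :=
  Nat.beq (treeAt 0).2.2 0 &&
    ((List.range 525).all fun m => Nat.beq m 0 ||
      let e := treeAt m
      Nat.blt e.1 m && Nat.blt e.2.1 2 && Nat.blt (treeAt e.1).2.2 525 &&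
        Nat.beq (imAt e.2.1 (treeAt e.1).2.2).1 e.2.2) &&
    (List.range 525).all fun v => Nat.blt (posAt v) 525 && Nat.beq (treeAt (posAt v)).2.2 v

theorem tree_ok : treeOK = true := by decide +kernel

/-- The orders of the two generators. -/
def itIm (s : ℕ) : ℕ → ℕ → ℕ
  | 0, i => i
  | k + 1, i => (imAt s (itIm s k i)).1

theorem orders_ok : ((List.range 525).all fun i => Nat.beq (itIm 0 7 i) i && Nat.beq (itIm 1 8 i) i) = true ∧
    ((List.range 525).any fun i => !Nat.beq (itIm 0 1 i) i) = true ∧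
    ((List.range 525).any fun i => !Nat.beq (itIm 1 4 i) i) = true := by decide +kernel

universe u

variable {F : Type u} [Field F] [Fintype F]

/-- The two-generated permutation group. -/
def IsPair (σ : Fin 2 → Equiv.Perm (Fin 525)) : Prop := ∀ s i, (σ s i).1 = (imAt s.1 i.1).1

theorem exists_model (hF : Fintype.card F = 25) :
    ∃ σ : Fin 2 → Equiv.Perm (Fin 525), IsPair σ ∧ Nat.card ↥(Subgroup.closure (Set.range σ)) = 126000 ∧
      Nonempty (↥(Subgroup.closure (Set.range σ)) ≃* Cfsg.PSU 3 F 5) := by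
  classical
  haveI := Fact.mk (show Nat.Prime 5 by norm_num)
  haveI : CharP F 5 := charP_of_card_eq_prime_pow (p := 5) (f := 2) (by rw [hF]; norm_num)
  have hF' : Fintype.card F = 5 ^ 2 := by rw [hF]; norm_num
  obtain ⟨i0, hi0⟩ : IsSquare (2 : F) := FiniteField.isSquare_two_iff.2 (by rw [hF]; decide)
  have hi : i0 * i0 = 2 := hi0.symm
  haveI : IsSimpleGroup (Cfsg.PSU 3 F 5) := CfsgLib.Classical.psu_isSimple hF' le_rfl (by norm_num)
  let w : Fin 525 → Fin 3 → F := fun i r => val i0 ((ptAt i.1).getD r.1 0)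
  have hpts := pts_ok
  simp only [ptsOK, List.all_eq_true, List.mem_range, Bool.and_eq_true] at hpts
  have hlt : ∀ (i : Fin 525) (r : ℕ), (ptAt i.1).getD r 0 < 25 := fun i r => by
    rw [List.getD_eq_getElem?_getD]
    rcases h : (ptAt i.1)[r]? with _ | x
    · norm_num
    · exact Nat.le_of_ble_eq_true ((hpts i.1 i.2).1.2 x (List.mem_of_getElem? h))
  have hfirst : ∀ (l : List ℕ) (k : ℕ), fnz l = k → k ≠ 0 → ∃ r < l.length, l.getD r 0 = k := by
    intro l
    induction l with
    | nil => intro k h h0; exact absurd h.symm h0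
    | cons x l ih =>
      intro k h h0
      by_cases hx : x = 0
      · obtain ⟨r, hr, e⟩ := ih k (by simpa [fnz, hx] using h) h0
        exact ⟨r + 1, by simp [hr], by simpa using e⟩
      · have : fnz (x :: l) = x := by
          simp [fnz, List.find?, Bool.eq_false_iff.2 fun hb => hx (Nat.eq_of_beq_eq_true hb)]
        exact ⟨0, by simp, by rw [← h, this]; rfl⟩
  have hwne : ∀ i, w i ≠ 0 := fun i h => by
    obtain ⟨r, hr, e⟩ := hfirst _ 1 (Nat.eq_of_beq_eq_true (hpts i.1 i.2).1.1.1) one_ne_zero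
    have hr3 : r < 3 := (Nat.eq_of_beq_eq_true (hpts i.1 i.2).1.1.2) ▸ hr
    have := congrFun h ⟨r, hr3⟩
    simp only [w, e, val_one, Pi.zero_apply] at this
    exact one_ne_zero this
  let e : Fin 525 → ℙ F (Fin 3 → F) := fun i => Projectivization.mk F (w i) (hwne i)
  have he : Function.Injective e := fun i j h => by
    obtain ⟨a, ha⟩ := (Projectivization.mk_eq_mk_iff' F _ _ _ _).1 h
    obtain ⟨r, hr, e1⟩ := hfirst _ 1 (Nat.eq_of_beq_eq_true (hpts j.1 j.2).1.1.1) one_ne_zero
    have hr3 : r < 3 := (Nat.eq_of_beq_eq_true (hpts j.1 j.2).1.1.2) ▸ hr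
    set c := (ptAt i.1).getD r 0 with hc
    have hac : a = val i0 c := by
      have h := congrFun ha ⟨r, hr3⟩
      simp only [w, Pi.smul_apply, smul_eq_mul] at h
      rw [e1, val_one, mul_one] at h
      rw [h, hc]
    have hli : (ptAt i.1).length = 3 := Nat.eq_of_beq_eq_true (hpts i.1 i.2).1.1.2
    have hlj : (ptAt j.1).length = 3 := Nat.eq_of_beq_eq_true (hpts j.1 j.2).1.1.2
    have hlist : ptAt i.1 = (ptAt j.1).map (mulN c) := by
      refine List.ext_getElem (by rw [List.length_map, hli, hlj]) fun m h1 h2 => ?_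
      have hm : m < 3 := hli ▸ h1
      have := congrFun ha ⟨m, hm⟩
      simp only [w, Pi.smul_apply, smul_eq_mul, hac, ← val_mulN hi] at this
      rw [List.getD_eq_getElem _ _ (hlj.symm ▸ hm), List.getD_eq_getElem _ _ h1] at this
      rw [List.getElem_map]
      refine (val_inj hi ?_ ?_ this).symm
      · unfold mulN; omega
      · exact (List.getD_eq_getElem (ptAt i.1) 0 h1) ▸ hlt i m
    have hcv : c = 1 := by
      have h1 := Nat.eq_of_beq_eq_true ((hpts j.1 j.2).2 c (hlt i r))
      rw [← hlist, Nat.eq_of_beq_eq_true (hpts i.1 i.2).1.1.1] at h1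
      exact h1.symm
    have hone : ∀ x < 25, mulN 1 x = x := by decide
    have hk : ∀ m < 3, (ptAt i.1).getD m 0 = (ptAt j.1).getD m 0 := fun m hm => by
      rw [hlist, hcv, List.getD_eq_getElem _ _ (by rw [List.length_map, hlj]; exact hm), List.getElem_map,
        List.getD_eq_getElem _ _ (hlj.symm ▸ hm)]
      exact hone _ ((List.getD_eq_getElem (ptAt j.1) 0 (hlj.symm ▸ hm)) ▸ hlt j m)
    exact Fin.ext (key_inj i.2 j.2 (by
      rw [key, key, hk 0 (by norm_num), hk 1 (by norm_num), hk 2 (by norm_num)]))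
  have hcen : Subgroup.center ↥(Cfsg.SU 3 F 5) ≤
      ((MulAction.toPermHom (SpecialLinearGroup (Fin 3) F) (ℙ F (Fin 3 → F))).comp (Cfsg.SU 3 F 5).subtype).ker := by
    intro A hA
    refine Equiv.ext fun x => ?_
    obtain ⟨C⟩ := CfsgLib.Classical.uctx_exists hF'
    obtain ⟨c, hc, -⟩ := C.scalar_of_mem_center (n := 3) (by norm_num) hA
    have hm : (A.1 : Matrix (Fin 3) (Fin 3) F) = ((c : Fˣ) : F) • 1 :=
      (congrArg (fun g : ↥(Cfsg.GU 3 F 5) => g.1.1) hc).trans (C.gscal_val c)
    induction x using Projectivization.ind with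
    | h v hv =>
      show (A.1 : SpecialLinearGroup (Fin 3) F) • Projectivization.mk F v hv = Projectivization.mk F v hv
      refine (Projectivization.mk_eq_mk_iff' F _ _ _ _).2 ⟨((c : Fˣ) : F), ?_⟩
      show ((c : Fˣ) : F) • v = (A.1 : Matrix (Fin 3) (Fin 3) F) *ᵥ v
      rw [hm, Matrix.smul_mulVec, Matrix.one_mulVec]
  let act : Cfsg.PSU 3 F 5 →* Equiv.Perm (ℙ F (Fin 3 → F)) := QuotientGroup.lift _ _ hcen
  have himg := images_ok
  simp only [imagesOK, List.all_eq_true, List.mem_range, Bool.and_eq_true] at himg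
  let g : Fin 2 → Cfsg.PSU 3 F 5 := fun s => el hi (mats.getD s.1 [])
  have hgen : ∀ (s : Fin 2) (i : Fin 525), ∃ j : Fin 525, j.1 = (imAt s.1 i.1).1 ∧ act (g s) (e i) = e j := by
    intro s i
    obtain ⟨hgood, hall⟩ := himg s.1 s.2
    obtain ⟨⟨⟨h1, -⟩, h2⟩, h3⟩ := hall i.1 i.2
    refine ⟨⟨_, Nat.le_of_ble_eq_true h1⟩, rfl, ?_⟩
    show ((su hi (mats.getD s.1 [])).1 : SpecialLinearGroup (Fin 3) F) • e i = _
    refine (Projectivization.mk_eq_mk_iff' F _ _ _ _).2 ⟨val i0 (imAt s.1 i.1).2, funext fun r => ?_⟩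
    show val i0 (imAt s.1 i.1).2 * w ⟨(imAt s.1 i.1).1, _⟩ r =
      (((su hi (mats.getD s.1 [])).1.1 : Matrix (Fin 3) (Fin 3) F) *ᵥ w i) r
    rw [su_val hi hgood, Matrix.mulVec, dotProduct, Fin.sum_univ_three]
    simp only [w, toMat, ← val_mulN hi, ← val_addN]
    exact congrArg (val i0) (Nat.eq_of_beq_eq_true (h3 r.1 r.2)).symm
  set K := Subgroup.closure (Set.range g)
  have hinv : ∀ x ∈ K, ∀ i, ∃ j, act x (e i) = e j := by
    intro x hx
    rw [← Subgroup.mem_toSubmonoid, Subgroup.closure_toSubmonoid_of_finite] at hx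
    induction hx using Submonoid.closure_induction with
    | mem y hy =>
      obtain ⟨s, rfl⟩ := hy
      intro i
      obtain ⟨j, -, h⟩ := hgen s i
      exact ⟨j, h⟩
    | one => exact fun i => ⟨i, by rw [map_one]; rfl⟩
    | mul y z _ _ hy hz =>
      intro i
      obtain ⟨j, hj⟩ := hz i
      obtain ⟨k, hk⟩ := hy j
      exact ⟨k, by rw [map_mul, Equiv.Perm.mul_apply, hj, hk]⟩
  choose f hf using fun x : ↥K => hinv x.1 x.2
  have fone : ∀ i, f 1 i = i := fun i => he (by rw [← hf, Subgroup.coe_one, map_one]; rfl)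
  have fmul : ∀ x y i, f (x * y) i = f x (f y i) := fun x y i => he (by
    rw [← hf, ← hf, Subgroup.coe_mul, map_mul, Equiv.Perm.mul_apply, ← hf])
  let psi : ↥K →* Equiv.Perm (Fin 525) :=
    { toFun := fun x =>
        { toFun := f x
          invFun := f x⁻¹
          left_inv := fun i => by rw [← fmul, inv_mul_cancel, fone]
          right_inv := fun i => by rw [← fmul, mul_inv_cancel, fone] }
      map_one' := Equiv.ext fone
      map_mul' := fun x y => Equiv.ext (fmul x y) }
  let σ : Fin 2 → Equiv.Perm (Fin 525) := fun s => psi ⟨g s, Subgroup.subset_closure ⟨s, rfl⟩⟩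
  have hσ : IsPair σ := fun s i => by
    obtain ⟨j, hj, h⟩ := hgen s i
    rw [← hj]
    exact congrArg Fin.val (he ((hf ⟨g s, _⟩ i).symm.trans h))
  set H := Subgroup.closure (Set.range σ) with hH
  have hrange : H ≤ psi.range := by
    rw [hH, Subgroup.closure_le]
    rintro _ ⟨s, rfl⟩
    exact ⟨_, rfl⟩
  have hpow : ∀ (s : Fin 2) (k : ℕ) (i : Fin 525), ((σ s ^ k) i).1 = itIm s.1 k i.1 := by
    intro s k
    induction k with
    | zero => exact fun i => rfl
    | succ k ih => intro i; rw [pow_succ', Equiv.Perm.mul_apply, hσ, ih]; rfl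
  obtain ⟨ho1, ho2, ho3⟩ := orders_ok
  simp only [List.all_eq_true, List.any_eq_true, List.mem_range, Bool.and_eq_true, Bool.not_eq_true'] at ho1 ho2 ho3
  have hA : orderOf (σ 0) = 7 := by
    haveI := Fact.mk (show Nat.Prime 7 by norm_num)
    refine orderOf_eq_prime (Equiv.ext fun i => Fin.ext ?_) fun h => ?_
    · rw [hpow]; exact Nat.eq_of_beq_eq_true (ho1 i.1 i.2).1
    · obtain ⟨i, hi', hne⟩ := ho2
      have h1 := hpow 0 1 ⟨i, hi'⟩
      rw [pow_one, h] at h1
      exact Nat.ne_of_beq_eq_false hne h1.symm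
  have hB : orderOf (σ 1) = 8 := by
    haveI := Fact.mk Nat.prime_two
    refine orderOf_eq_prime_pow (p := 2) (n := 2) (fun h => ?_) (Equiv.ext fun i => Fin.ext ?_)
    · obtain ⟨i, hi', hne⟩ := ho3
      have h1 := hpow 1 4 ⟨i, hi'⟩
      rw [show (2 : ℕ) ^ 2 = 4 by norm_num] at h
      rw [h] at h1
      exact Nat.ne_of_beq_eq_false hne h1.symm
    · rw [show (2 : ℕ) ^ (2 + 1) = 8 by norm_num, hpow]; exact Nat.eq_of_beq_eq_true (ho1 i.1 i.2).2
  have hmemσ : ∀ s, σ s ∈ H := fun s => Subgroup.subset_closure ⟨s, rfl⟩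
  have h7 : 7 ∣ Nat.card ↥H := hA ▸ Subgroup.orderOf_dvd_natCard H (hmemσ 0)
  have h8 : 8 ∣ Nat.card ↥H := hB ▸ Subgroup.orderOf_dvd_natCard H (hmemσ 1)
  have h525 : 525 ∣ Nat.card ↥H := by
    have ht := tree_ok
    simp only [treeOK, Bool.and_eq_true, List.all_eq_true, List.mem_range, Bool.or_eq_true] at ht
    obtain ⟨⟨hroot, hstep⟩, hcov⟩ := ht
    have horb : ∀ m, m < 525 → ∀ v : Fin 525, v.1 = (treeAt m).2.2 → v ∈ MulAction.orbit ↥H (0 : Fin 525) := by
      intro m
      induction m using Nat.strong_induction_on with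
      | _ m ih =>
        intro hm v hv
        rcases hstep m hm with h0 | ⟨⟨⟨hp, hs⟩, hu'⟩, him⟩
        · obtain rfl := Nat.eq_of_beq_eq_true h0
          have : v = 0 := Fin.ext (hv.trans (Nat.eq_of_beq_eq_true hroot))
          rw [this]; exact MulAction.mem_orbit_self _
        · have hpm : (treeAt m).1 < m := Nat.le_of_ble_eq_true hp
          have hult : (treeAt (treeAt m).1).2.2 < 525 := Nat.le_of_ble_eq_true hu'
          obtain ⟨⟨x, hx⟩, hxe⟩ := ih _ hpm (hpm.trans hm) ⟨_, hult⟩ rfl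
          refine ⟨⟨σ ⟨_, Nat.le_of_ble_eq_true hs⟩ * x, mul_mem (hmemσ _) hx⟩, Fin.ext ?_⟩
          show ((σ ⟨_, Nat.le_of_ble_eq_true hs⟩ * x) 0).1 = v.1
          rw [Equiv.Perm.mul_apply, show x 0 = (⟨_, hult⟩ : Fin 525) from hxe, hσ, hv]
          exact Nat.eq_of_beq_eq_true him
    have hall : MulAction.orbit ↥H (0 : Fin 525) = Set.univ := by
      refine Set.eq_univ_iff_forall.2 fun v => ?_
      obtain ⟨h1, h2⟩ := hcov v.1 v.2
      exact horb _ (Nat.le_of_ble_eq_true h1) v (Nat.eq_of_beq_eq_true h2).symm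
    have h := Nat.card_congr (MulAction.orbitProdStabilizerEquivGroup ↥H (0 : Fin 525))
    rw [Nat.card_prod, hall, Nat.card_coe_set_eq, Set.ncard_univ, Nat.card_fin] at h
    exact Dvd.intro _ h
  have h4200 : 4200 ∣ Nat.card ↥H := by
    have h := Nat.lcm_dvd h525 (Nat.lcm_dvd h7 h8)
    rwa [show Nat.lcm 525 (Nat.lcm 7 8) = 4200 by decide] at h
  have hle : Nat.card ↥H ≤ Nat.card ↥K :=
    (Nat.le_of_dvd Nat.card_pos (Subgroup.card_dvd_of_le hrange)).trans
      (Nat.card_le_card_of_surjective psi.rangeRestrict psi.rangeRestrict_surjective)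
  have hcard := card_psu hF'
  have hKtop : K = ⊤ := by
    by_contra hne
    have h50 := fifty_le_index hi hF' K hne
    have hmul := K.index_mul_card
    rw [hcard] at hmul
    have : 4200 ≤ Nat.card ↥K := (Nat.le_of_dvd Nat.card_pos h4200).trans hle
    nlinarith
  haveI : IsSimpleGroup ↥K := hKtop ▸ (Subgroup.topEquiv.isSimpleGroup :
    IsSimpleGroup ↥(⊤ : Subgroup (Cfsg.PSU 3 F 5)))
  have hpsi : Function.Injective psi := by
    rw [← MonoidHom.ker_eq_bot_iff]
    refine psi.normal_ker.eq_bot_or_eq_top.resolve_right fun h => ?_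
    have : σ 0 = 1 := MonoidHom.mem_ker.1 (h ▸ Subgroup.mem_top _)
    rw [this, orderOf_one] at hA
    norm_num at hA
  have hR : H = psi.range := by
    refine le_antisymm hrange ?_
    rintro _ ⟨⟨x, hx⟩, rfl⟩
    induction hx using Subgroup.closure_induction with
    | mem y hy => obtain ⟨s, rfl⟩ := hy; exact hmemσ s
    | one => exact (map_one psi).symm ▸ one_mem H
    | mul y z hy hz h1 h2 => exact (map_mul psi ⟨y, hy⟩ ⟨z, hz⟩).symm ▸ mul_mem h1 h2
    | inv y hy h1 => exact (map_inv psi ⟨y, hy⟩).symm ▸ inv_mem h1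
  refine ⟨σ, hσ, ?_, ⟨(MulEquiv.subgroupCongr hR).trans ((MonoidHom.ofInjective hpsi).symm.trans
    ((MulEquiv.subgroupCongr hKtop).trans Subgroup.topEquiv))⟩⟩
  rw [← hH, hR, ← Nat.card_congr (MonoidHom.ofInjective hpsi).toEquiv, hKtop, Subgroup.card_top, hcard]

end CfsgLib.Spor.HSStab
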